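import Cfsg.Agent.Lib.ChevMult.LiftsD4

/-!
Tables for the central extensions of the group of type `D₄` over two elements: the pairs of orthogonal roots
fall into three classes, linked by Hall–Witt steps.
-/

set_option autoImplicit false

namespace CfsgLib.DFourTwo

open Cfsg.Lie CfsgLib.ChevMult

/-- the head of the commutator table -/
def sumIdx (r s : ℕ) : ℕ := (((chevD4.commTerms r s).head?).map fun c => c.1).getD 0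

/-- `r` and `s` sum to `k` -/
def sumB (r s k : ℕ) : Bool := singleB chevD4 1 r s k && singleB chevD4 1 s r k

/-- the pairs whose lifts commute in every central extension -/
def killB (r s : ℕ) : Bool :=
  okComB chevD4 r s && (methodB chevD4 1 r s || methodB chevD4 1 s r)

/-- the orthogonal pairs -/
def orthB (r s : ℕ) : Bool :=
  okComB chevD4 r s && okComB chevD4 s r && !(methodB chevD4 1 r s || methodB chevD4 1 s r)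

/-- two unordered pairs agree -/
def sameB (a b c d : ℕ) : Bool := (Nat.beq a c && Nat.beq b d) || (Nat.beq a d && Nat.beq b c)

/-- the data `x = a + m`, `y' = m + y`, `k = x + y = a + y'` -/
def edgeOkB (a m y x y' k : ℕ) : Bool :=
  sumB a m x && sumB m y y' && sumB x y k && sumB a y' k && okComB chevD4 a y && okComB chevD4 x y' &&
    killB y' k && killB x k && killB a k

/-- a Hall–Witt step from `(r, s)` to `(e, b)` -/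
def stepB (r s a b e : ℕ) : Bool :=
  sumB a b s && sumB a r e && okComB chevD4 r b && okComB chevD4 e a && okComB chevD4 e b && okComB chevD4 r s

/-- the chains of steps -/
def cert : List (ℕ × ℕ × ℕ × ℕ × List ℕ) :=
  [(15, 22, 0, 0, []),
   (16, 22, 0, 1, []),
   (20, 21, 0, 2, []),
   (22, 15, 1, 0, []),
   (12, 23, 3, 0, [14, 22, 15]),
   (17, 20, 2, 0, [13, 20, 17]),
   (20, 17, 2, 0, [18, 17, 20]),
   (23, 12, 2, 0, [21, 12, 23]),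
   (2, 9, 4, 0, [15, 0, 22, 2, 9, 12, 2, 23, 9, 15, 22, 12]),
   (9, 2, 4, 0, [22, 0, 15, 9, 2, 12, 2, 23, 9, 15, 22, 12]),
   (5, 13, 4, 0, [15, 3, 22, 5, 13, 17, 5, 20, 13, 15, 22, 17]),
   (13, 5, 4, 0, [22, 3, 15, 13, 5, 17, 5, 20, 13, 15, 22, 17]),
   (10, 18, 4, 0, [15, 6, 22, 10, 18, 20, 10, 17, 18, 15, 22, 20]),
   (18, 10, 4, 0, [22, 6, 15, 18, 10, 20, 10, 17, 18, 15, 22, 20]),
   (14, 21, 4, 0, [15, 11, 22, 14, 21, 23, 14, 12, 21, 15, 22, 23]),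
   (21, 14, 4, 0, [22, 11, 15, 21, 14, 23, 14, 12, 21, 15, 22, 23]),
   (22, 16, 1, 1, []),
   (13, 23, 3, 1, [14, 22, 16]),
   (17, 21, 2, 1, [12, 21, 17]),
   (21, 17, 2, 1, [18, 17, 21]),
   (23, 13, 2, 1, [20, 13, 23]),
   (3, 9, 4, 1, [16, 0, 22, 3, 9, 13, 3, 23, 9, 16, 22, 13]),
   (9, 3, 4, 1, [22, 0, 16, 9, 3, 13, 3, 23, 9, 16, 22, 13]),
   (5, 12, 4, 1, [16, 2, 22, 5, 12, 17, 5, 21, 12, 16, 22, 17]),
   (12, 5, 4, 1, [22, 2, 16, 12, 5, 17, 5, 21, 12, 16, 22, 17]),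
   (11, 18, 4, 1, [16, 6, 22, 11, 18, 21, 11, 17, 18, 16, 22, 21]),
   (18, 11, 4, 1, [22, 6, 16, 18, 11, 21, 11, 17, 18, 16, 22, 21]),
   (14, 20, 4, 1, [16, 10, 22, 14, 20, 23, 14, 13, 20, 16, 22, 23]),
   (20, 14, 4, 1, [22, 10, 16, 20, 14, 23, 14, 13, 20, 16, 22, 23]),
   (21, 20, 1, 2, []),
   (18, 23, 3, 2, [15, 21, 20]),
   (19, 22, 3, 2, [12, 21, 20]),
   (22, 19, 2, 2, [13, 19, 22]),
   (23, 18, 2, 2, [16, 18, 23]),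
   (7, 8, 4, 2, [20, 0, 21, 7, 8, 18, 7, 23, 8, 20, 21, 18]),
   (8, 7, 4, 2, [21, 0, 20, 8, 7, 18, 7, 23, 8, 20, 21, 18]),
   (10, 11, 4, 2, [20, 1, 21, 10, 11, 19, 10, 22, 11, 20, 21, 19]),
   (11, 10, 4, 2, [21, 1, 20, 11, 10, 19, 10, 22, 11, 20, 21, 19]),
   (12, 13, 4, 2, [20, 4, 21, 12, 13, 22, 12, 19, 13, 20, 21, 22]),
   (13, 12, 4, 2, [21, 4, 20, 13, 12, 22, 12, 19, 13, 20, 21, 22]),
   (15, 16, 4, 2, [20, 5, 21, 15, 16, 23, 15, 18, 16, 20, 21, 23]),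
   (16, 15, 4, 2, [21, 5, 20, 16, 15, 23, 15, 18, 16, 20, 21, 23]),
   (2, 14, 4, 4, [12, 1, 23, 2, 14, 15, 2, 22, 14, 12, 23, 15]),
   (14, 2, 4, 4, [23, 1, 12, 14, 2, 15, 2, 22, 14, 12, 23, 15]),
   (4, 16, 4, 4, [12, 3, 23, 4, 16, 17, 4, 20, 16, 12, 23, 17]),
   (16, 4, 4, 4, [23, 3, 12, 16, 4, 17, 4, 20, 16, 12, 23, 17]),
   (7, 19, 4, 4, [12, 6, 23, 7, 19, 20, 7, 17, 19, 12, 23, 20]),
   (19, 7, 4, 4, [23, 6, 12, 19, 7, 20, 7, 17, 19, 12, 23, 20]),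
   (9, 21, 4, 4, [12, 8, 23, 9, 21, 22, 9, 15, 21, 12, 23, 22]),
   (21, 9, 4, 4, [23, 8, 12, 21, 9, 22, 9, 15, 21, 12, 23, 22]),
   (4, 7, 4, 5, [17, 0, 20, 4, 7, 12, 4, 23, 7, 17, 20, 12]),
   (7, 4, 4, 5, [20, 0, 17, 7, 4, 12, 4, 23, 7, 17, 20, 12]),
   (5, 10, 4, 5, [17, 1, 20, 5, 10, 15, 5, 22, 10, 17, 20, 15]),
   (10, 5, 4, 5, [20, 1, 17, 10, 5, 15, 5, 22, 10, 17, 20, 15]),
   (13, 18, 4, 5, [17, 8, 20, 13, 18, 22, 13, 15, 18, 17, 20, 22]),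
   (18, 13, 4, 5, [20, 8, 17, 18, 13, 22, 13, 15, 18, 17, 20, 22]),
   (16, 19, 4, 5, [17, 11, 20, 16, 19, 23, 16, 12, 19, 17, 20, 23]),
   (19, 16, 4, 5, [20, 11, 17, 19, 16, 23, 16, 12, 19, 17, 20, 23]),
   (0, 12, 3, 8, [15, 9, 2]),
   (12, 0, 2, 8, [22, 0, 12]),
   (1, 8, 4, 8, [2, 11, 9, 1, 8, 0, 1, 12, 8, 2, 9, 0]),
   (8, 1, 4, 8, [9, 11, 2, 8, 1, 0, 1, 12, 8, 2, 9, 0]),
   (3, 17, 3, 10, [15, 13, 5]),
   (17, 3, 2, 10, [22, 3, 17]),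
   (6, 20, 3, 12, [15, 18, 10]),
   (20, 6, 2, 12, [22, 6, 20]),
   (11, 23, 3, 14, [15, 21, 14]),
   (23, 11, 2, 14, [22, 11, 23]),
   (3, 14, 4, 17, [13, 1, 23, 3, 14, 16, 3, 22, 14, 13, 23, 16]),
   (14, 3, 4, 17, [23, 1, 13, 14, 3, 16, 3, 22, 14, 13, 23, 16]),
   (4, 15, 4, 17, [13, 2, 23, 4, 15, 17, 4, 21, 15, 13, 23, 17]),
   (15, 4, 4, 17, [23, 2, 13, 15, 4, 17, 4, 21, 15, 13, 23, 17]),
   (8, 19, 4, 17, [13, 6, 23, 8, 19, 21, 8, 17, 19, 13, 23, 21]),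
   (19, 8, 4, 17, [23, 6, 13, 19, 8, 21, 8, 17, 19, 13, 23, 21]),
   (9, 20, 4, 17, [13, 7, 23, 9, 20, 22, 9, 16, 20, 13, 23, 22]),
   (20, 9, 4, 17, [23, 7, 13, 20, 9, 22, 9, 16, 20, 13, 23, 22]),
   (4, 8, 4, 18, [17, 0, 21, 4, 8, 13, 4, 23, 8, 17, 21, 13]),
   (8, 4, 4, 18, [21, 0, 17, 8, 4, 13, 4, 23, 8, 17, 21, 13]),
   (5, 11, 4, 18, [17, 1, 21, 5, 11, 16, 5, 22, 11, 17, 21, 16]),
   (11, 5, 4, 18, [21, 1, 17, 11, 5, 16, 5, 22, 11, 17, 21, 16]),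
   (12, 18, 4, 18, [17, 7, 21, 12, 18, 22, 12, 16, 18, 17, 21, 22]),
   (18, 12, 4, 18, [21, 7, 17, 18, 12, 22, 12, 16, 18, 17, 21, 22]),
   (15, 19, 4, 18, [17, 10, 21, 15, 19, 23, 15, 13, 19, 17, 21, 23]),
   (19, 15, 4, 18, [21, 10, 17, 19, 15, 23, 15, 13, 19, 17, 21, 23]),
   (0, 13, 3, 21, [16, 9, 3]),
   (13, 0, 2, 21, [22, 0, 13]),
   (1, 7, 4, 21, [3, 10, 9, 1, 7, 0, 1, 13, 7, 3, 9, 0]),
   (7, 1, 4, 21, [9, 10, 3, 7, 1, 0, 1, 13, 7, 3, 9, 0]),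
   (2, 17, 3, 23, [16, 12, 5]),
   (17, 2, 2, 23, [22, 2, 17]),
   (6, 21, 3, 25, [16, 18, 11]),
   (21, 6, 2, 25, [22, 6, 21]),
   (10, 23, 3, 27, [16, 20, 14]),
   (23, 10, 2, 27, [22, 10, 23]),
   (6, 14, 4, 30, [18, 1, 23, 6, 14, 19, 6, 22, 14, 18, 23, 19]),
   (14, 6, 4, 30, [23, 1, 18, 14, 6, 19, 6, 22, 14, 18, 23, 19]),
   (7, 15, 4, 30, [18, 2, 23, 7, 15, 20, 7, 21, 15, 18, 23, 20]),
   (15, 7, 4, 30, [23, 2, 18, 15, 7, 20, 7, 21, 15, 18, 23, 20]),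
   (8, 16, 4, 30, [18, 3, 23, 8, 16, 21, 8, 20, 16, 18, 23, 21]),
   (16, 8, 4, 30, [23, 3, 18, 16, 8, 21, 8, 20, 16, 18, 23, 21]),
   (9, 17, 4, 30, [18, 4, 23, 9, 17, 22, 9, 19, 17, 18, 23, 22]),
   (17, 9, 4, 30, [23, 4, 18, 17, 9, 22, 9, 19, 17, 18, 23, 22]),
   (6, 9, 4, 31, [19, 0, 22, 6, 9, 18, 6, 23, 9, 19, 22, 18]),
   (9, 6, 4, 31, [22, 0, 19, 9, 6, 18, 6, 23, 9, 19, 22, 18]),
   (10, 12, 4, 31, [19, 2, 22, 10, 12, 20, 10, 21, 12, 19, 22, 20]),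
   (12, 10, 4, 31, [22, 2, 19, 12, 10, 20, 10, 21, 12, 19, 22, 20]),
   (11, 13, 4, 31, [19, 3, 22, 11, 13, 21, 11, 20, 13, 19, 22, 21]),
   (13, 11, 4, 31, [22, 3, 19, 13, 11, 21, 11, 20, 13, 19, 22, 21]),
   (14, 17, 4, 31, [19, 5, 22, 14, 17, 23, 14, 18, 17, 19, 22, 23]),
   (17, 14, 4, 31, [22, 5, 19, 17, 14, 23, 14, 18, 17, 19, 22, 23]),
   (0, 18, 3, 34, [20, 8, 7]),
   (18, 0, 2, 34, [21, 0, 18]),
   (2, 3, 4, 34, [7, 5, 8, 2, 3, 0, 2, 18, 3, 7, 8, 0]),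
   (3, 2, 4, 34, [8, 5, 7, 3, 2, 0, 2, 18, 3, 7, 8, 0]),
   (1, 19, 3, 36, [20, 11, 10]),
   (19, 1, 2, 36, [21, 1, 19]),
   (4, 22, 3, 38, [20, 13, 12]),
   (22, 4, 2, 38, [21, 4, 22]),
   (5, 23, 3, 40, [20, 16, 15]),
   (23, 5, 2, 40, [21, 5, 23]),
   (1, 15, 3, 42, [12, 14, 2]),
   (15, 1, 2, 42, [23, 1, 15]),
   (0, 11, 4, 42, [2, 8, 14, 0, 11, 1, 0, 15, 11, 2, 14, 1]),
   (11, 0, 4, 42, [14, 8, 2, 11, 0, 1, 0, 15, 11, 2, 14, 1]),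
   (8, 22, 3, 48, [12, 21, 9]),
   (22, 8, 2, 48, [23, 8, 22]),
   (3, 6, 4, 50, [4, 11, 7, 3, 6, 0, 3, 12, 6, 4, 7, 0]),
   (6, 3, 4, 50, [7, 11, 4, 6, 3, 0, 3, 12, 6, 4, 7, 0]),
   (1, 16, 3, 68, [13, 14, 3]),
   (16, 1, 2, 68, [23, 1, 16]),
   (0, 10, 4, 68, [3, 7, 14, 0, 10, 1, 0, 16, 10, 3, 14, 1]),
   (10, 0, 4, 68, [14, 7, 3, 10, 0, 1, 0, 16, 10, 3, 14, 1]),
   (7, 22, 3, 74, [13, 20, 9]),
   (22, 7, 2, 74, [23, 7, 22]),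
   (2, 6, 4, 76, [4, 10, 8, 2, 6, 0, 2, 13, 6, 4, 8, 0]),
   (6, 2, 4, 76, [8, 10, 4, 6, 2, 0, 2, 13, 6, 4, 8, 0]),
   (0, 5, 4, 94, [6, 4, 14, 0, 5, 1, 0, 19, 5, 6, 14, 1]),
   (5, 0, 4, 94, [14, 4, 6, 5, 0, 1, 0, 19, 5, 6, 14, 1]),
   (2, 20, 3, 96, [18, 15, 7]),
   (20, 2, 2, 96, [23, 2, 20]),
   (3, 21, 3, 98, [18, 16, 8]),
   (21, 3, 2, 98, [23, 3, 21]),
   (1, 4, 4, 102, [6, 5, 9, 1, 4, 0, 1, 18, 4, 6, 9, 0]),
   (4, 1, 4, 102, [9, 5, 6, 4, 1, 0, 1, 18, 4, 6, 9, 0])]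

/-- one entry of the certificate -/
def chk (i : ℕ) : Bool :=
  match cert.getD i (0, 0, 9, 0, []) with
  | (r, s, 0, _, _) => Nat.blt i 3 && orthB r s
  | (r, s, kind, p, d) =>
    Nat.blt p i && orthB r s &&
      match cert.getD p (0, 0, 9, 0, []), kind, d with
      | (r', s', _, _, _), 1, _ => Nat.beq r s' && Nat.beq s r'
      | (r', s', _, _, _), 2, [a, b, e] => Nat.beq r e && Nat.beq s b && stepB r' s' a b e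
      | (r', s', _, _, _), 3, [a, b, e] => Nat.beq r' e && Nat.beq s' b && stepB r s a b e
      | (r', s', _, _, _), 4, [a, m, y, x, z, k, a', m', y', x', z', k'] =>
        edgeOkB a m y x z k && edgeOkB a' m' y' x' z' k' && Nat.beq r x && Nat.beq s z && Nat.beq r' x' &&
          Nat.beq s' z' &&
          ((sameB x y x' y' && sameB a z a' z') || (sameB x y a' z' && sameB a z x' y'))
      | _, _, _ => false

/-- a linking edge for the pair `(r, s)` and the first pair of sum `k` -/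
def linkB (r s k c d : ℕ) : Bool :=
  sameB r s c d || [r, s, c, d].any fun a => (List.range 24).any fun m =>
    sumB a m (sumIdx a m) && [r, s, c, d].any fun y =>
      edgeOkB a m y (sumIdx a m) (sumIdx m y) k &&
        ((sameB r s a (sumIdx m y) && sameB c d (sumIdx a m) y) || (sameB c d a (sumIdx m y) && sameB r s (sumIdx a m) y))

/-- a chosen pair of sum `k` -/
def canonL : List (ℕ × ℕ) :=
  (List.range 24).map fun k => (((List.range 24).flatMap fun a => (List.range 24).map fun b => (a, b)).find?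
    fun p => sumB p.1 p.2 k).getD (0, 0)

end CfsgLib.DFourTwo
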